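import Groth.Agent.H34.CanonFam
import Groth.Agent.H58VA.Fibre
import Groth.Agent.H58VA.Omega
import Groth.Agent.Lib.Ample.RelAmple
import Groth.Agent.Lib.ProjMor.Conv
import Groth.Agent.Lib.Curves.Degree
import Groth.Agent.Lib.ExchangeFP29.Locus
import Groth.Agent.Lib.TensorMod.Pullback
import Groth.Agent.S12128
import Groth.Agent.S1152

/-!
# The canonical polarization of a family of smooth curves of genus different from one

`CanAmple b f`: the relative differentials of `f` are invertible and their tensor inverse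
(`b = false`) or they themselves (`b = true`) are relatively ample. The property is stable under
base change and descends along flat covers; families of curves of genus `≠ 1` have it.
-/

set_option autoImplicit false
set_option linter.style.haveILetI false
set_option backward.isDefEq.respectTransparency false
set_option backward.isDefEq.respectTransparency.types false
universe u

open CategoryTheory CategoryTheory.Limits AlgebraicGeometry TopologicalSpace

noncomputable section

namespace Groth.Agent.H58Stack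

open Groth.Agent Groth.Agent.Lib

variable {C C' S S' : Scheme.{u}}

/-- `M` is the differentials (`b = true`), resp. their tensor inverse (`b = false`). -/
def IsCan (f : C ⟶ S) : Bool → C.Modules → Prop
  | true, M => Nonempty (M ≅ Omega.sheaf f)
  | false, M => PicF.IsInvertible M ∧
      Nonempty (CohB1.tensorMod M (Omega.sheaf f) ≅ Coh.structureModule C)

/-- The canonical polarization condition. -/
def CanAmple (b : Bool) (f : C ⟶ S) : Prop :=
  PicF.IsInvertible (Omega.sheaf f) ∧ ∀ M, IsCan f b M → RelAmple.IsRelAmple f M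

theorem exists_isCan {f : C ⟶ S} (b : Bool) (hΩ : PicF.IsInvertible (Omega.sheaf f)) :
    ∃ M, IsCan f b M := by
  cases b
  · obtain ⟨M, hM, ⟨e⟩⟩ := TensorMod.Invertible.exists_inverse hΩ
    exact ⟨M, hM, ⟨TensorMod.Basic.comm _ _ ≪≫ e⟩⟩
  · exact ⟨_, ⟨Iso.refl _⟩⟩

theorem IsCan.unique {f : C ⟶ S} {b : Bool} (hΩ : PicF.IsInvertible (Omega.sheaf f))
    {M N : C.Modules} (hM : IsCan f b M) (hN : IsCan f b N) : Nonempty (M ≅ N) := by
  cases b
  · exact ⟨TensorMod.Invertible.cancelRight hΩ (hM.2.some ≪≫ hN.2.some.symm)⟩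
  · exact ⟨hM.some ≪≫ hN.some.symm⟩

theorem IsCan.isInvertible {f : C ⟶ S} {b : Bool} (hΩ : PicF.IsInvertible (Omega.sheaf f))
    {M : C.Modules} (hM : IsCan f b M) : PicF.IsInvertible M := by
  cases b
  · exact hM.1
  · exact TensorMod.Invertible.isInvertible_of_iso hM.some.symm hΩ

section Square

variable {f : C ⟶ S} {f' : C' ⟶ S'} {h : C' ⟶ C} {g : S' ⟶ S}

/-- The differentials commute with base change. -/
theorem nonempty_omega_pullback [QuasiSeparated f] (H : IsPullback h f' f g) :
    Nonempty ((Scheme.Modules.pullback h).obj (Omega.sheaf f) ≅ Omega.sheaf f') := by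
  haveI : QuasiSeparated f' := MorphismProperty.of_isPullback (P := @QuasiSeparated) H inferInstance
  obtain ⟨c, hc, -⟩ := Kaehler.Basic.existsUnique_diffCompat (h := h)
    (b := g) (f := f) (f' := f') H.w.symm
    (Kaehler.DOmega.isUniversal_dOmega f) (OmegaSh.dOmega f')
  exact ⟨@asIso _ _ _ _ c (Kaehler.BaseChange.isIso_of_isPullback H
    (Kaehler.DOmega.isUniversal_dOmega f) (Kaehler.DOmega.isUniversal_dOmega f') c hc)⟩

theorem IsCan.pullback [QuasiSeparated f] {b : Bool} (H : IsPullback h f' f g) {M : C.Modules} (hM : IsCan f b M) :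
    IsCan f' b ((Scheme.Modules.pullback h).obj M) := by
  obtain ⟨w⟩ := nonempty_omega_pullback H
  cases b
  · exact ⟨PicLoc.isInvertible_pullback _ hM.1, ⟨TensorMod.Basic.tensorIso (Iso.refl _) w.symm ≪≫
      (TensorMod.Pullback.pullbackTensorIso h M _).symm ≪≫
      (Scheme.Modules.pullback h).mapIso hM.2.some ≪≫ PicLoc.pullbackStructureIso h⟩⟩
  · exact ⟨(Scheme.Modules.pullback h).mapIso hM.some ≪≫ w⟩

theorem isRelAmple_of_iso {X Y : Scheme.{u}} {q : X ⟶ Y} {M N : X.Modules} (e : M ≅ N)
    (hM : RelAmple.IsRelAmple q M) : RelAmple.IsRelAmple q N :=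
  (Ample.RelAmple.isRelAmple_iff q).2 ⟨((Ample.RelAmple.isRelAmple_iff q).1 hM).1, fun V hV =>
    Ample.Pow.isAmple_of_iso ((Scheme.Modules.pullback _).mapIso e)
      (((Ample.RelAmple.isRelAmple_iff q).1 hM).2 V hV)⟩

theorem CanAmple.quasiCompact {b : Bool} (hf : CanAmple b f) : QuasiCompact f :=
  let ⟨M, hM⟩ := exists_isCan b hf.1
  (hf.2 M hM).1

theorem CanAmple.baseChange [QuasiSeparated f] {b : Bool} (H : IsPullback h f' f g) (hf : CanAmple b f) :
    CanAmple b f' := by
  haveI := hf.quasiCompact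
  obtain ⟨w⟩ := nonempty_omega_pullback H
  have hΩ := TensorMod.Invertible.isInvertible_of_iso w (PicLoc.isInvertible_pullback h hf.1)
  refine ⟨hΩ, fun M' hM' => ?_⟩
  obtain ⟨M, hM⟩ := exists_isCan b hf.1
  obtain ⟨e⟩ := (hM.pullback H).unique hΩ hM'
  refine isRelAmple_of_iso e ?_
  have h1 := Ample.RelAmple.isRelAmple_baseChange f g (hf.2 M hM)
  let i := H.isoPullback
  have h2 := Ample.RelAmple.isRelAmple_pullback (pullback.snd f g) i.hom
    (Ample.RelAmple.isQuasiAffine_of_isImmersion _) h1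
  rw [H.isoPullback_hom_snd] at h2
  exact isRelAmple_of_iso ((Scheme.Modules.pullbackComp i.hom (pullback.fst f g)).app M ≪≫
    (Scheme.Modules.pullbackCongr H.isoPullback_hom_fst).app M) h2

/-- Invertibility of the differentials can be checked after base change. -/
theorem omega_rankOne_at [Smooth f] [QuasiSeparated f] (H : IsPullback h f' f g)
    (hΩ : PicF.IsInvertible (Omega.sheaf f')) (x' : C') :
    ∃ U : C.Opens, h x' ∈ U ∧
      Nonempty ((Omega.sheaf f).restrict U.ι ≅ FlatMod.freeMod (↑U) 1) := by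
  obtain ⟨U, m, hx, ⟨i⟩, -⟩ :=
    Kaehler.SmoothChart.exists_free_fibreDim (Kaehler.DOmega.isUniversal_dOmega f) (h x')
  obtain ⟨w⟩ := nonempty_omega_pullback H
  obtain ⟨i'⟩ := TensorMod.LocFree.pullback_iso_of_restrict_iso h i
  have hm : m = 1 := ExchangeFP29.Locus.rank_eq
    (TensorMod.LocFree.of_isInvertible (TensorMod.Invertible.isInvertible_of_iso w.symm hΩ))
    (W := h ⁻¹ᵁ U) (x := x') hx i'
  subst hm
  exact ⟨U, hx, ⟨i⟩⟩

end Square

/-- The canonical polarization descends along locally finite flat covers of the base. -/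
theorem canAmple_of_locally {b : Bool} (f : C ⟶ S) [Smooth f] [QuasiCompact f]
    [QuasiSeparated f]
    (h : ∀ s : S, ∃ (V : S.Opens) (T : Scheme.{u}) (ρ : T ⟶ (V : Scheme.{u})), s ∈ V ∧
      QuasiCompact ρ ∧ Flat ρ ∧ Surjective ρ ∧ CanAmple b (pullback.snd f (ρ ≫ V.ι))) :
    CanAmple b f := by
  choose V T ρ hmem hqc hfl hsj hcan using h
  have hΩ : PicF.IsInvertible (Omega.sheaf f) := by
    refine TensorMod.LocFree.isInvertible_of_rank_one fun x => ?_
    haveI := hsj (f x)
    obtain ⟨t, ht⟩ := (ρ (f x)).surjective ⟨f x, hmem (f x)⟩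
    obtain ⟨x', hx', -⟩ := Scheme.Pullback.exists_preimage_pullback (f := f)
      (g := ρ (f x) ≫ (V (f x)).ι) x t (by rw [Scheme.Hom.comp_apply, ht]; rfl)
    have := omega_rankOne_at (IsPullback.of_hasPullback f (ρ (f x) ≫ (V (f x)).ι)) (hcan (f x)).1 x'
    rwa [hx'] at this
  refine ⟨hΩ, fun M hM => ?_⟩
  refine (Ample.RelAmple.isRelAmple_iff_of_openCover f V
    (top_le_iff.1 fun s _ => Opens.mem_iSup.2 ⟨s, hmem s⟩)).2 fun s => ?_
  haveI := hqc s
  haveI := hfl s
  haveI := hsj s
  have H₁ := (isPullback_morphismRestrict f (V s)).flip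
  have H₂ := IsPullback.of_hasPullback (f ∣_ (V s)) (ρ s)
  have H₃ := H₂.paste_horiz H₁
  have hM₃ := hM.pullback H₃
  have hc : CanAmple b (pullback.snd (f ∣_ (V s)) (ρ s)) := by
    let e := H₃.isoPullback
    refine CanAmple.baseChange (h := e.hom) (g := 𝟙 _) ?_ (hcan s)
    exact IsPullback.of_horiz_isIso ⟨by rw [H₃.isoPullback_hom_snd, Category.comp_id]⟩
  haveI : QuasiCompact (f ∣_ (V s)) :=
    MorphismProperty.of_isPullback (P := @QuasiCompact) H₁ inferInstance
  have hMi : PicF.IsInvertible (M.restrict (f ⁻¹ᵁ (V s)).ι) :=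
    TensorMod.Invertible.isInvertible_of_iso
      ((Scheme.Modules.restrictFunctorIsoPullback (f ⁻¹ᵁ (V s)).ι).app M).symm
      (PicLoc.isInvertible_pullback _ (hM.isInvertible hΩ))
  refine Groth.Agent.S1152.result (f ∣_ (V s)) _ hMi (ρ s) ?_
  refine isRelAmple_of_iso ?_ (hc.2 _ hM₃)
  exact ((Scheme.Modules.pullbackComp _ (f ⁻¹ᵁ (V s)).ι).app M).symm ≪≫
    (Scheme.Modules.pullback _).mapIso
      ((Scheme.Modules.restrictFunctorIsoPullback (f ⁻¹ᵁ (V s)).ι).app M).symm

attribute [local instance] H34.CanonFam.fibOver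

/-- Families of smooth curves of genus different from one are canonically polarized. -/
theorem canAmple_of_curve (f : C ⟶ S) [IsProper f] [Smooth f] [GeometricallyConnected f]
    (hdim : ∀ s : S, topologicalKrullDim ↥(f.fiber s) = 1) {g : ℕ} (hg : g ≠ 1)
    (hgen : ∀ s, Curv2.genus (S.residueField s) (f.fiber s) = g) :
    CanAmple (decide (2 ≤ g)) f := by
  have hΩ := H34.CanonFam.isInvertible_omega f hdim
  refine ⟨hΩ, fun M hM => ?_⟩
  have key : ∃ n : ℕ, 0 < n ∧ ∀ s, 2 * (Curv2.genus (S.residueField s) (f.fiber s) : ℤ) + 1 ≤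
      Curv2.deg (S.residueField s) (f.fiber s)
        (CohIII.fiberMod f (CohB1.tensorPow M n) s) 1 := by
    by_cases h2 : 2 ≤ g
    · rw [decide_eq_true h2] at hM
      refine ⟨3, by omega, fun s => ?_⟩
      obtain ⟨e⟩ := H34.CanonFam.nonempty_tensorPow hM.some 3
      have := H58VA.Omega.deg_pow f hdim hgen h2 (le_refl 3) s
      rwa [Curves.Euler.deg_eq_of_iso ((Scheme.Modules.pullback (f.fiberι s)).mapIso e) 1]
    · rw [decide_eq_false h2] at hM
      refine ⟨1, by omega, fun s => ?_⟩
      haveI := H34.CanonFam.isIntegral f hdim s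
      have h0 := H34.CanonFam.h0 f hdim s
      have hω := CurveFF.SmoothBC.isInvertible (k := S.residueField s) (X := f.fiber s) (hdim s)
      obtain ⟨-, hd⟩ :=
        CurveFF.SmoothBC.omega_facts (k := S.residueField s) (X := f.fiber s) (hdim s) h0
      obtain ⟨w⟩ := H34.CanonFam.nonempty_fibre_omega f s
      have hM₁ : PicF.IsInvertible (CohIII.fiberMod f M s) := PicLoc.isInvertible_pullback _ hM.1
      have hinv : ClSub.IsInverseOf (CohIII.fiberMod f M s)
          (Omega.sheaf (f.fiber s ↘ Spec (CommRingCat.of (S.residueField s)))) :=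
        ⟨TensorMod.Basic.tensorIso (Iso.refl _) w.symm ≪≫
          (TensorMod.Pullback.pullbackTensorIso (f.fiberι s) M _).symm ≪≫
          (Scheme.Modules.pullback (f.fiberι s)).mapIso hM.2.some ≪≫
          PicLoc.pullbackStructureIso (f.fiberι s)⟩
      have hd' := Curves.Degree.deg_of_isInverseOf (k := S.residueField s) (hdim s).le hM₁ hω hinv
      obtain ⟨e⟩ : Nonempty (CohB1.tensorPow M 1 ≅ M) :=
        ⟨Ample.Pow.powOne M⟩
      rw [Curves.Euler.deg_eq_of_iso ((Scheme.Modules.pullback (f.fiberι s)).mapIso e) 1]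
      change _ ≤ Curv2.deg _ _ (CohIII.fiberMod f M s) 1
      rw [hd', hd, hgen s]
      have : g = 0 := by omega
      subst this
      norm_num
  obtain ⟨n, hn, hdeg⟩ := key
  have hMinv := hM.isInvertible hΩ
  have hLn := TensorMod.Invertible.isInvertible_tensorPow hMinv n
  refine (Ample.RelAmple.isRelAmple_tensorPow_iff f hMinv hn).2 ?_
  refine (Groth.Agent.S12128.result f _ hLn).2 fun s => ?_
  exact (Ample.RelAmple.isRelAmple_iff_isAmple (f.fiberToSpecResidueField s)).1
    (ProjMor.Conv.isRelAmple_of_isRelVeryAmplePn (H58VA.Omega.fibre_of_deg f hdim _ hLn s (hdeg s)).1)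

end Groth.Agent.H58Stack
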