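import Groth.Agent.Lib.EtDescent.Res
import Groth.Agent.Lib.EtDescent.Res
import Groth.Agent.Lib.EtDescent.GlueEtale
import Groth.Agent.Lib.EtDescent.DatumOfAct
import Groth.Agent.Lib.FFDesc.Lqf
import Groth.Agent.Lib.DescAlg.Descends
import Groth.Agent.Lib.Unram.FibreCount
import Mathlib.AlgebraicGeometry.Sites.Fpqc

/-!
# Effectiveness of descent in stages

Adapted from `Lib.EtDescent.FpqcEff` (there: separated quasi-compact etale schemes).
-/

set_option autoImplicit false
set_option linter.style.haveILetI false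
universe u

open CategoryTheory CategoryTheory.Limits AlgebraicGeometry

namespace Groth.Agent.H58Stack

open Groth.Agent.Lib Groth.Agent.Lib.EtDescent

open Groth.Agent.Lib.FFDesc (fpqcCover restrict restrict_tr IsDescended pr pr₁ act act_eq_tr tr tr_congr
  comp_tr tr_hom)

variable {S' S : Scheme.{u}} {g : S' ⟶ S}

/-- Effectiveness by a separated quasi-compact etale scheme descends along fpqc morphisms. -/
theorem exists_descended_of_stage (hg : fpqcCover g) (D : Desc.SchDD g) {S₁ : Scheme.{u}}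
    (p : S₁ ⟶ S) [Flat p] [Surjective p] [QuasiCompact p] (U₁ : Over S₁)
    (q₁' : (Res D p).obj.left ⟶ U₁.left) (H₁ : IsDescended (Res D p) U₁ q₁')
    (hE : ∀ E : Desc.SchDD p, E.obj = Over.mk U₁.hom →
      ∃ (U : Over S) (π : E.obj.left ⟶ U.left), IsDescended E U π) :
    ∃ (U : Over S) (q : D.obj.left ⟶ U.left), IsDescended D U q := by
  let x : U₁.left ⟶ S₁ := U₁.hom
  let X₁ := resX D p
  let π₁ : X₁ ⟶ S₁ := resStr D p ≫ pullback.snd g p
  let q₁ : X₁ ⟶ U₁.left := q₁'
  have hq₁ : q₁ ≫ x = π₁ := H₁.isPullback.w.symm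
  have hg₁ : fpqcCover (pullback.snd g p) :=
    MorphismProperty.of_isPullback (IsPullback.of_hasPullback g p) hg
  haveI hq₁e : Epi q₁ := H₁.epi hg₁
  -- the comparison over the double product
  let b₀ : pullback p p ⟶ S₁ := pullback.fst p p
  let b₁ : pullback p p ⟶ S₁ := pullback.snd p p
  let t₂ : pullback p p ⟶ S := b₀ ≫ p
  have hb₁ : b₁ ≫ p = t₂ := pullback.condition.symm
  let D₂ := Res D t₂
  have H₂ := isDescended_of_map (D₁ := D₂) (D₂ := Res D p) (resMap D b₀ rfl) (resBase b₀ rfl) b₀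
    (resBase_snd b₀ rfl) (isPullback_resMap D b₀ rfl)
    (fun v y hv hv' ↦ resMap_tr D b₀ rfl v y hv hv') H₁
  let k : resX D t₂ ⟶ U₁.left := resMap D b₁ hb₁ ≫ q₁
  have hk : pr D₂ ≫ k = act D₂ ≫ k := by
    let v : FFDesc.V₂ D₂ ⟶ resX D t₂ := pr D₂
    let y : FFDesc.V₂ D₂ ⟶ pullback g t₂ := pr₁ D₂
    have hv : v ≫ resStr D t₂ ≫ pullback.snd g t₂ = y ≫ pullback.snd g t₂ := pullback.condition
    have hv' : (v ≫ resMap D b₁ hb₁) ≫ resStr D p ≫ pullback.snd g p =
        (y ≫ resBase b₁ hb₁) ≫ pullback.snd g p := by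
      rw [Category.assoc, resMap_snd_assoc, Category.assoc, resBase_snd, reassoc_of% hv]
    let t : FFDesc.V₂ D₂ ⟶ resX D t₂ := tr D₂ v y hv
    have key : v ≫ k = t ≫ k := by
      refine Eq.trans ?_ (Category.assoc t (resMap D b₁ hb₁) q₁)
      refine Eq.trans ?_ (congrArg (· ≫ q₁) (resMap_tr D b₁ hb₁ v y hv hv')).symm
      exact ((H₁.tr_comp (Res D p) _ _ hv').trans (Category.assoc _ _ _)).symm
    exact key.trans (congrArg (· ≫ k) (act_eq_tr D₂).symm)
  let q₂ : resX D t₂ ⟶ pullback x b₀ :=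
    pullback.lift (resMap D b₀ rfl ≫ q₁) (resStr D t₂ ≫ pullback.snd g t₂)
      (by rw [Category.assoc, hq₁, resMap_snd_assoc, resBase_snd, Category.assoc])
  have hg₂ : fpqcCover (pullback.snd g t₂) :=
    MorphismProperty.of_isPullback (IsPullback.of_hasPullback g t₂) hg
  obtain ⟨l, hl₁⟩ := H₂.exists_desc hg₂ k hk
  have hl₂ : l ≫ x = pullback.snd x b₀ ≫ b₁ := by
    refine H₂.hom_ext hg₂ ?_
    rw [reassoc_of% hl₁]
    change k ≫ x = q₂ ≫ pullback.snd x b₀ ≫ b₁
    rw [Category.assoc, hq₁, resMap_snd_assoc, resBase_snd, pullback.lift_snd_assoc,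
      Category.assoc]
  replace hl₁ : q₂ ≫ l = k := hl₁
  -- the action
  let m : pullback (x ≫ p) p ⟶ pullback x b₀ :=
    pullback.lift (pullback.fst _ _) (pullback.lift (pullback.fst _ _ ≫ x) (pullback.snd _ _)
      (by rw [Category.assoc]; exact pullback.condition)) (pullback.lift_fst _ _ _).symm
  let a : pullback (x ≫ p) p ⟶ U₁.left := m ≫ l
  have ha : a ≫ x = pullback.snd (x ≫ p) p := by
    rw [Category.assoc]
    refine (congrArg (m ≫ ·) hl₂).trans ?_
    simp only [m, b₁, pullback.lift_snd_assoc, pullback.lift_snd]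
  have hξ : ∀ {Z : Scheme.{u}} (ξ : Z ⟶ X₁) (b : Z ⟶ S₁), (ξ ≫ q₁) ≫ x ≫ p = b ≫ p →
      (ξ ≫ resStr D p ≫ pullback.fst g p) ≫ g = b ≫ p := fun ξ b h ↦ by
    rw [← h, Category.assoc ξ q₁, reassoc_of% hq₁, Category.assoc, Category.assoc]
    simp only [π₁, Category.assoc, pullback.condition]
  let move : ∀ {Z : Scheme.{u}} (ξ : Z ⟶ X₁) (b : Z ⟶ S₁),
      (ξ ≫ q₁) ≫ x ≫ p = b ≫ p → (Z ⟶ X₁) := fun ξ b h ↦
    pullback.lift (ξ ≫ pullback.fst _ _)
      (pullback.lift (ξ ≫ resStr D p ≫ pullback.fst g p) b (hξ ξ b h))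
      (by rw [pullback.lift_fst, Category.assoc, pullback.condition])
  have hact : ∀ {Z : Scheme.{u}} (ξ : Z ⟶ X₁) (b : Z ⟶ S₁)
      (h : (ξ ≫ q₁) ≫ x ≫ p = b ≫ p),
      pullback.lift (ξ ≫ q₁) b h ≫ a = move ξ b h ≫ q₁ := by
    intro Z ξ b h
    let c : Z ⟶ pullback p p := pullback.lift (ξ ≫ π₁) b (by
      rw [← h]; simp only [Category.assoc, reassoc_of% hq₁])
    have hc₀ : c ≫ b₀ = ξ ≫ π₁ := pullback.lift_fst _ _ _
    have hc₁ : c ≫ b₁ = b := pullback.lift_snd _ _ _
    let η : Z ⟶ resX D t₂ := pullback.lift (ξ ≫ pullback.fst _ _)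
      (pullback.lift (ξ ≫ resStr D p ≫ pullback.fst g p) c (by
        rw [hξ ξ b h, reassoc_of% hc₀, ← h, Category.assoc, reassoc_of% hq₁]))
      (by rw [pullback.lift_fst, Category.assoc, pullback.condition])
    have hη₀ : η ≫ resMap D b₀ rfl = ξ := by
      refine pullback.hom_ext ?_ (pullback.hom_ext ?_ ?_)
      · simp [η, pullback.lift_fst]
      · simp [η, pullback.lift_fst, pullback.lift_snd_assoc]
      · simp only [η, Category.assoc, resMap_snd_assoc, resBase_snd, pullback.lift_snd_assoc]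
        rw [hc₀]
    have hη₁ : η ≫ resMap D b₁ hb₁ = move ξ b h := by
      refine pullback.hom_ext ?_ (pullback.hom_ext ?_ ?_)
      · simp [η, move, pullback.lift_fst]
      · simp [η, move, pullback.lift_fst, pullback.lift_snd_assoc]
      · simp only [η, move, Category.assoc, resMap_snd_assoc, resBase_snd,
          pullback.lift_snd_assoc, pullback.lift_snd]
        rw [hc₁]
    have e : pullback.lift (ξ ≫ q₁) b h ≫ m = η ≫ q₂ := by
      refine pullback.hom_ext ?_ (pullback.hom_ext ?_ ?_)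
      · simp only [m, q₂, Category.assoc, pullback.lift_fst, reassoc_of% hη₀]
      · simp only [m, q₂, η, Category.assoc, pullback.lift_fst, pullback.lift_snd_assoc,
          pullback.lift_fst_assoc, pullback.lift_snd]
        change ξ ≫ q₁ ≫ x = c ≫ b₀
        rw [hc₀, hq₁]
      · simp only [m, q₂, η, Category.assoc, pullback.lift_snd_assoc, pullback.lift_snd]
        exact hc₁.symm
    rw [← Category.assoc, e, Category.assoc, hl₁, ← Category.assoc, hη₁]
  have h0 : pullback.lift (𝟙 U₁.left) x (Category.id_comp _) ≫ a = 𝟙 U₁.left := by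
    refine (cancel_epi q₁).1 ?_
    have hw : (𝟙 X₁ ≫ q₁) ≫ x ≫ p = π₁ ≫ p := by rw [Category.id_comp, reassoc_of% hq₁]
    have e : q₁ ≫ pullback.lift (𝟙 U₁.left) x (Category.id_comp _) =
        pullback.lift (𝟙 X₁ ≫ q₁) π₁ hw := by
      refine pullback.hom_ext ?_ ?_
      · simp [pullback.lift_fst]
      · simp [pullback.lift_snd, hq₁]
    rw [← Category.assoc, e, hact, Category.comp_id]
    conv_rhs => rw [← Category.id_comp q₁]
    congr 1
    refine pullback.hom_ext ?_ (pullback.hom_ext ?_ ?_)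
    · simp [move, pullback.lift_fst]
    · simp [move, pullback.lift_fst, pullback.lift_snd_assoc]
    · simp [move, π₁, pullback.lift_snd_assoc, pullback.lift_snd]
  have h2 : pullback.lift (pullback.fst (pullback.snd (x ≫ p) p ≫ p) p ≫ a)
      (pullback.snd (pullback.snd (x ≫ p) p ≫ p) p)
      (by rw [Category.assoc, reassoc_of% ha, pullback.condition]) ≫ a =
    pullback.lift (pullback.fst (pullback.snd (x ≫ p) p ≫ p) p ≫ pullback.fst (x ≫ p) p)
      (pullback.snd (pullback.snd (x ≫ p) p ≫ p) p)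
      (by rw [Category.assoc, pullback.condition, pullback.condition]) ≫ a := by
    set V := pullback (pullback.snd (x ≫ p) p ≫ p) p
    let v : V ⟶ U₁.left := pullback.fst _ _ ≫ pullback.fst (x ≫ p) p
    let y₁ : V ⟶ S₁ := pullback.fst _ _ ≫ pullback.snd (x ≫ p) p
    let y₂ : V ⟶ S₁ := pullback.snd _ _
    let c : pullback q₁ v ⟶ V := pullback.snd _ _
    let ξ : pullback q₁ v ⟶ X₁ := pullback.fst _ _
    have hcv : c ≫ v = ξ ≫ q₁ := pullback.condition.symm
    haveI : Epi c :=
      have hc : fpqcCover c := MorphismProperty.of_isPullback (IsPullback.of_hasPullback q₁ v) (H₁.cover hg₁)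
      have := hc.effectiveEpi
      inferInstance
    refine (cancel_epi c).1 ?_
    have w₁ : (ξ ≫ q₁) ≫ x ≫ p = (c ≫ y₁) ≫ p := by
      rw [← hcv]
      simp only [v, y₁, Category.assoc, pullback.condition]
    have w₂ : (ξ ≫ q₁) ≫ x ≫ p = (c ≫ y₂) ≫ p := by
      rw [w₁]
      simp only [y₁, y₂, Category.assoc, pullback.condition]
    have w₁₂ : (move ξ (c ≫ y₁) w₁ ≫ q₁) ≫ x ≫ p = (c ≫ y₂) ≫ p := by
      rw [Category.assoc, reassoc_of% hq₁, ← w₂, w₁]
      simp only [π₁, move, Category.assoc, pullback.lift_snd_assoc]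
    have e₁ : c ≫ pullback.fst (pullback.snd (x ≫ p) p ≫ p) p =
        pullback.lift (ξ ≫ q₁) (c ≫ y₁) w₁ := by
      refine pullback.hom_ext ?_ ?_
      · rw [pullback.lift_fst, ← hcv, Category.assoc]
      · rw [pullback.lift_snd, Category.assoc]
    have eL : c ≫ pullback.lift (pullback.fst (pullback.snd (x ≫ p) p ≫ p) p ≫ a) y₂
        (by rw [Category.assoc, reassoc_of% ha, pullback.condition]) =
        pullback.lift (move ξ (c ≫ y₁) w₁ ≫ q₁) (c ≫ y₂) w₁₂ := by
      refine pullback.hom_ext ?_ ?_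
      · rw [Category.assoc, pullback.lift_fst, pullback.lift_fst, reassoc_of% e₁, hact]
      · rw [Category.assoc, pullback.lift_snd, pullback.lift_snd]
    have eR : c ≫ pullback.lift v y₂
        (by rw [Category.assoc, pullback.condition, pullback.condition]) =
        pullback.lift (ξ ≫ q₁) (c ≫ y₂) w₂ := by
      refine pullback.hom_ext ?_ ?_
      · rw [Category.assoc, pullback.lift_fst, pullback.lift_fst, hcv]
      · rw [Category.assoc, pullback.lift_snd, pullback.lift_snd]
    rw [← Category.assoc c, ← Category.assoc c, eL, eR, hact, hact]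
    congr 1
    refine pullback.hom_ext ?_ (pullback.hom_ext ?_ ?_)
    · simp [move, pullback.lift_fst]
    · simp [move, pullback.lift_fst, pullback.lift_fst_assoc, pullback.lift_snd_assoc]
    · simp [move, pullback.lift_snd, pullback.lift_snd_assoc]
  -- descend the scheme
  let E : Desc.SchDD p := datumOfAct x a ha h0 h2
  obtain ⟨U, π', HE⟩ := hE E rfl
  let π : U₁.left ⟶ U.left := π'
  have hπ : ∀ {Z : Scheme.{u}} (v : Z ⟶ U₁.left) (y : Z ⟶ S₁) (h : v ≫ x ≫ p = y ≫ p),
      pullback.lift v y h ≫ a ≫ π = v ≫ π := fun v y h ↦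
    (Category.assoc _ _ _).symm.trans
      ((congrArg (· ≫ π) (tr_datumOfAct x a ha h0 h2 v y h).symm).trans (HE.tr_comp E v y h))
  have sqE : IsPullback x π p U.hom := HE.isPullback
  have hp : (@Surjective ⊓ @Flat ⊓ @QuasiCompact : MorphismProperty Scheme.{u}) p :=
    ⟨⟨inferInstance, inferInstance⟩, inferInstance⟩
  -- descend the quotient map
  let ρ : X₁ ⟶ D.obj.left := pullback.fst D.obj.hom (pullback.fst g p)
  have hρ : resStr D p ≫ pullback.fst g p = ρ ≫ D.obj.hom := pullback.condition.symm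
  have hdesc : ∀ {Z : Scheme.{u}} (g₁ g₂ : Z ⟶ X₁), g₁ ≫ ρ = g₂ ≫ ρ →
      g₁ ≫ q₁ ≫ π = g₂ ≫ q₁ ≫ π := by
    intro Z g₁ g₂ e
    have hb : (g₁ ≫ q₁) ≫ x ≫ p = (g₂ ≫ π₁) ≫ p := by
      rw [Category.assoc, reassoc_of% hq₁]
      simp only [π₁, Category.assoc, ← pullback.condition, reassoc_of% hρ, reassoc_of% e]
    have hg₂ : move g₁ (g₂ ≫ π₁) hb = g₂ := by
      refine pullback.hom_ext ?_ (pullback.hom_ext ?_ ?_)
      · rw [pullback.lift_fst]; exact e
      · simp only [move, Category.assoc, pullback.lift_snd_assoc, pullback.lift_fst]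
        rw [hρ, ← Category.assoc, e, Category.assoc]
      · simp only [move, π₁, Category.assoc, pullback.lift_snd_assoc, pullback.lift_snd]
    refine Eq.trans ?_ (congrArg (· ≫ q₁ ≫ π) hg₂)
    rw [← Category.assoc (move g₁ (g₂ ≫ π₁) hb), ← hact g₁ (g₂ ≫ π₁) hb, Category.assoc, hπ,
      Category.assoc]
  let q : D.obj.left ⟶ U.left := EffectiveEpi.desc ρ (q₁ ≫ π) hdesc
  have hq : ρ ≫ q = q₁ ≫ π := EffectiveEpi.fac ρ (q₁ ≫ π) hdesc
  have hqw : D.obj.hom ≫ g = q ≫ U.hom := by
    refine (cancel_epi ρ).1 ?_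
    rw [reassoc_of% hq, ← sqE.w, reassoc_of% hq₁, ← reassoc_of% hρ, pullback.condition]
    simp only [π₁, Category.assoc]
  let θ : D.obj.left ⟶ pullback g U.hom := pullback.lift D.obj.hom q hqw
  let m' : X₁ ⟶ pullback g U.hom := ρ ≫ θ
  have sqA : IsPullback (resStr D p) (m' ≫ pullback.snd g U.hom) (pullback.fst g p ≫ g) U.hom := by
    have e : m' ≫ pullback.snd g U.hom = q₁ ≫ π := by
      rw [Category.assoc, pullback.lift_snd, hq]
    rw [e, pullback.condition]
    exact IsPullback.paste_vert (show IsPullback (resStr D p) q₁ (pullback.snd g p) x from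
      H₁.isPullback) sqE
  have hm' : m' ≫ pullback.fst g U.hom = resStr D p ≫ pullback.fst g p := by
    rw [Category.assoc, pullback.lift_fst, hρ]
  have sqB : IsPullback (resStr D p) m' (pullback.fst g p) (pullback.fst g U.hom) :=
    IsPullback.of_bot sqA hm'.symm (IsPullback.of_hasPullback g U.hom)
  have sqC : IsPullback ρ (𝟙 X₁) θ m' := by
    refine IsPullback.of_bot ?_ (by rw [Category.id_comp]) sqB.flip
    rw [Category.id_comp, pullback.lift_fst]
    exact IsPullback.of_hasPullback _ _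
  haveI : IsIso θ :=
    MorphismProperty.of_isPullback_of_descendsAlong (P := MorphismProperty.isomorphisms Scheme.{u})
      (Q := @Surjective ⊓ @Flat ⊓ @QuasiCompact) sqC.flip
      ⟨⟨MorphismProperty.of_isPullback (P := @Surjective) sqB inferInstance,
        MorphismProperty.of_isPullback (P := @Flat) sqB inferInstance⟩,
        MorphismProperty.of_isPullback (P := @QuasiCompact) sqB inferInstance⟩
      (inferInstanceAs (IsIso (𝟙 X₁)))
  refine ⟨U, q, ?_, ?_⟩
  · exact IsPullback.of_iso_pullback ⟨hqw⟩ (asIso θ) (pullback.lift_fst _ _ _)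
      (pullback.lift_snd _ _ _)
  · let c : pullback ρ (pr D) ⟶ FFDesc.V₂ D := pullback.snd _ _
    let n : pullback ρ (pr D) ⟶ X₁ := pullback.fst _ _
    have hn : n ≫ ρ = c ≫ pr D := pullback.condition
    have hv₂ : pr D ≫ D.obj.hom ≫ g = pr₁ D ≫ g := pullback.condition
    haveI : Epi c :=
      have hρ' : FFDesc.fpqcCover ρ := MorphismProperty.of_isPullback
        (IsPullback.of_hasPullback D.obj.hom (pullback.fst g p)).flip
        (MorphismProperty.of_isPullback (IsPullback.of_hasPullback g p).flip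
          (FFDesc.fpqcCover_of_quasiCompact p))
      have hc : FFDesc.fpqcCover c :=
        MorphismProperty.of_isPullback (IsPullback.of_hasPullback ρ (pr D)) hρ'
      have := hc.effectiveEpi
      inferInstance
    refine (cancel_epi c).1 ?_
    · have hy : (c ≫ pr₁ D) ≫ g = (n ≫ π₁) ≫ p := by
        rw [Category.assoc, Category.assoc, ← hv₂, ← reassoc_of% hn, ← reassoc_of% hρ, pullback.condition]
        simp only [π₁, Category.assoc]
      let y' : pullback ρ (pr D) ⟶ pullback g p := pullback.lift (c ≫ pr₁ D) (n ≫ π₁) hy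
      have hny : n ≫ resStr D p ≫ pullback.snd g p = y' ≫ pullback.snd g p :=
        (pullback.lift_snd _ _ _).symm
      let t : pullback ρ (pr D) ⟶ X₁ := tr (Res D p) n y' hny
      have ht : t ≫ ρ = c ≫ act D := by
        refine ((congrArg (· ≫ ρ) (restrict_tr D _ _ _ _ n y' hny)).trans
          (pullback.lift_fst _ _ _)).trans ?_
        refine Eq.trans ?_ (congrArg (c ≫ ·) (act_eq_tr D)).symm
        exact (tr_congr D _ hn (pullback.lift_fst _ _ _)).trans
          (comp_tr D c (pr D) (pr₁ D) pullback.condition).symm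
      rw [← reassoc_of% hn, ← reassoc_of% ht, hq, ← Category.assoc, ← Category.assoc]
      exact congrArg (· ≫ π) (H₁.tr_comp (Res D p) n y' hny).symm


end Groth.Agent.H58Stack
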