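import Groth.Agent.H58Stack.Glue
import Groth.Agent.H58Stack.Stage
import Groth.Agent.H58Stack.Can
import Groth.Agent.S7198
import Groth.Agent.S7521

/-!
# fppf descent is effective for canonically polarized smooth proper families

Refine the cover by Zariski coverings and two layers of finite locally free coverings; the
canonical polarization passes to the scheme descended along the inner layer, which allows descent
along the outer layer.
-/

set_option autoImplicit false
set_option linter.style.haveILetI false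
set_option backward.isDefEq.respectTransparency false
set_option backward.isDefEq.respectTransparency.types false
universe u

open CategoryTheory CategoryTheory.Limits AlgebraicGeometry TopologicalSpace

noncomputable section

namespace Groth.Agent.H58Stack

open Groth.Agent Groth.Agent.Lib
open Groth.Agent.Lib.FFDesc (fpqcCover piece restrict IsDescended)

/-- Descent along finite locally free covers for canonically polarized data. -/
theorem exists_isDescended_finite {X Y : Scheme.{u}} (π : X ⟶ Y) [Surjective π] [IsFinite π]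
    [Flat π] [LocallyOfFinitePresentation π] (E : Desc.SchDD π) {b : Bool}
    (h : CanAmple b E.obj.hom) :
    ∃ (U : Over Y) (q : E.obj.left ⟶ U.left), IsDescended E U q := by
  obtain ⟨M, hM⟩ := exists_isCan b h.1
  obtain ⟨W, ⟨e⟩⟩ := Groth.Agent.S7521.result π E M (h.2 M hM)
  exact ⟨W, _, FFDesc.exists_isDescended_of_iso E e⟩

/-- A property local on the target descending along quasi-compact flat covers. -/
theorem of_locally {P : MorphismProperty Scheme.{u}} [IsZariskiLocalAtTarget P]
    [P.DescendsAlong (@Surjective ⊓ @Flat ⊓ @QuasiCompact)] {C S : Scheme.{u}} (f : C ⟶ S)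
    (h : ∀ s : S, ∃ (V : S.Opens) (T : Scheme.{u}) (ρ : T ⟶ (V : Scheme.{u})), s ∈ V ∧
      QuasiCompact ρ ∧ Flat ρ ∧ Surjective ρ ∧ P (pullback.snd f (ρ ≫ V.ι))) : P f := by
  choose V T ρ hmem hqc hfl hsj hP using h
  refine IsZariskiLocalAtTarget.of_iSup_eq_top V
    (top_le_iff.1 fun s _ => Opens.mem_iSup.2 ⟨s, hmem s⟩) fun s => ?_
  have H₂ := IsPullback.of_hasPullback (f ∣_ (V s)) (ρ s)
  have H₃ := H₂.paste_horiz (isPullback_morphismRestrict f (V s)).flip
  refine MorphismProperty.of_isPullback_of_descendsAlong (P := P)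
    (Q := @Surjective ⊓ @Flat ⊓ @QuasiCompact) H₂.flip ⟨⟨hsj s, hfl s⟩, hqc s⟩ ?_
  rw [← H₃.isoPullback_hom_snd]
  exact (P.cancel_left_of_respectsIso _ _).2 (hP s)

/-- The main theorem: effectiveness of fppf descent for canonically polarized data. -/
theorem exists_isDescended {X S : Scheme.{u}} (p : X ⟶ S) [Flat p] [Surjective p]
    [LocallyOfFinitePresentation p] (D : Desc.SchDD p) [IsProper D.obj.hom] [Smooth D.obj.hom]
    {b : Bool} (hD : CanAmple b D.obj.hom) :
    ∃ (U : Over S) (q : D.obj.left ⟶ U.left), IsDescended D U q := by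
  have hp : fpqcCover p := FFDesc.fpqcCover_of_lfp p
  refine exists_isDescended_of_nhd D hp fun s => ?_
  obtain ⟨U, W, π, hs, hπ, hπs, hW⟩ := Groth.Agent.S7198.result
    (PreZeroHypercover.singleton.{0} p) (fun _ => ‹Flat p›)
    (fun _ => ‹LocallyOfFinitePresentation p›) (fun s => ⟨⟨⟩, p.surjective s⟩) s
  haveI := hπs
  haveI : IsFinite π := hπ.1
  haveI : Flat π := hπ.2.1
  haveI : LocallyOfFinitePresentation π := hπ.2.2
  let pU : pullback p U.ι ⟶ (U : Scheme.{u}) := pullback.snd p U.ι
  have hpU : fpqcCover pU := MorphismProperty.of_isPullback (IsPullback.of_hasPullback p U.ι) hp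
  let DU : Desc.SchDD pU := piece D U
  let DW : Desc.SchDD (pullback.snd pU π) := EtDescent.Res DU π
  let pW : pullback pU π ⟶ W := pullback.snd pU π
  have hpW : fpqcCover pW := MorphismProperty.of_isPullback (IsPullback.of_hasPullback pU π) hpU
  have sqW : IsPullback (pullback.fst (pullback.snd D.obj.hom (pullback.fst p U.ι))
      (pullback.fst pU π) ≫ pullback.fst D.obj.hom (pullback.fst p U.ι)) DW.obj.hom D.obj.hom
      (pullback.fst pU π ≫ pullback.fst p U.ι) :=
    (IsPullback.of_hasPullback _ _).paste_horiz (IsPullback.of_hasPullback _ _)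
  haveI : IsProper DW.obj.hom := MorphismProperty.of_isPullback (P := @IsProper) sqW inferInstance
  haveI : Smooth DW.obj.hom := MorphismProperty.of_isPullback (P := @Smooth) sqW inferInstance
  have hDW : CanAmple b DW.obj.hom := hD.baseChange sqW
  -- lifts of the inner covers
  have hlift : ∀ w : W, ∃ (W' : W.Opens) (T : Scheme.{u}) (ρ : T ⟶ (W' : Scheme.{u}))
      (r : T ⟶ pullback pW W'.ι), w ∈ W' ∧ Mor2.IsFinLocFree ρ ∧ Surjective ρ ∧
        r ≫ pullback.snd pW W'.ι = ρ := by
    intro w
    obtain ⟨W', T, ρ, i, r, hw, hρ, hρs, hr⟩ := hW w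
    exact ⟨W', T, ρ, pullback.lift (pullback.lift (pullback.lift r (ρ ≫ W'.ι ≫ π)
      (hr.trans (by simp only [Category.assoc]))) (ρ ≫ W'.ι)
      ((pullback.lift_snd _ _ _).trans (Category.assoc _ _ _).symm)) ρ (pullback.lift_snd _ _ _),
      hw, hρ, hρs, pullback.lift_snd _ _ _⟩
  choose W' T ρ r hw hρ hρs hr using hlift
  haveI := fun w => hρs w
  haveI : ∀ w, IsFinite (ρ w) := fun w => (hρ w).1
  haveI : ∀ w, Flat (ρ w) := fun w => (hρ w).2.1
  haveI : ∀ w, LocallyOfFinitePresentation (ρ w) := fun w => (hρ w).2.2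
  -- first descent, over `W`
  obtain ⟨Z, qZ, HZ⟩ : ∃ (Z : Over W) (q : DW.obj.left ⟶ Z.left), IsDescended DW Z q := by
    refine exists_isDescended_of_nhd DW hpW fun w => ?_
    let DW' := piece DW (W' w)
    let E : Desc.SchDD (ρ w) := restrict DW' (ρ w) (r w) (𝟙 _)
      ((Category.comp_id _).trans (hr w).symm)
    have hE : CanAmple b E.obj.hom := hDW.baseChange
      ((IsPullback.of_hasPullback (pullback.snd DW.obj.hom (pullback.fst pW (W' w).ι)) (r w)).paste_horiz
        (IsPullback.of_hasPullback DW.obj.hom (pullback.fst pW (W' w).ι)))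
    obtain ⟨Z', q', H'⟩ := exists_isDescended_finite (ρ w) E hE
    obtain ⟨q, H⟩ := FFDesc.exists_isDescended_of_restrict (D := DW') (ρ w) (r w) (hr w)
      (FFDesc.fpqcCover_of_quasiCompact (ρ w)) H'
    exact ⟨W' w, Z', q, hw w, H⟩
  -- properties of the scheme descended to `W`
  have hsq : ∀ w : W, ∃ (Q : Scheme.{u}) (fst : Q ⟶ DW.obj.left) (snd : Q ⟶ T w)
      (e : T w ⟶ pullback pU π), IsPullback fst snd DW.obj.hom e ∧
        IsPullback (fst ≫ qZ) snd Z.hom (ρ w ≫ (W' w).ι) := by
    intro w
    let e : T w ⟶ pullback pU π := r w ≫ pullback.fst pW (W' w).ι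
    have h1 := IsPullback.of_hasPullback DW.obj.hom e
    refine ⟨_, _, _, e, h1, ?_⟩
    have h2 := h1.paste_horiz HZ.isPullback.flip
    rwa [show e ≫ pullback.snd pU π = ρ w ≫ (W' w).ι by
      rw [Category.assoc]; exact (congrArg (r w ≫ ·) pullback.condition).trans
        ((Category.assoc _ _ _).symm.trans (congrArg (· ≫ (W' w).ι) (hr w)))] at h2
  choose Q fst snd e h₁ h₂ using hsq
  have hloc : ∀ {P : MorphismProperty Scheme.{u}} [P.IsStableUnderBaseChange] [P.RespectsIso],
      P DW.obj.hom → ∀ w, P (pullback.snd Z.hom (ρ w ≫ (W' w).ι)) := by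
    intro P _ _ hP w
    rw [← (h₂ w).isoPullback_inv_snd]
    exact (P.cancel_left_of_respectsIso _ _).2 (MorphismProperty.of_isPullback (h₁ w) hP)
  haveI : QuasiCompact Z.hom := of_locally (P := @QuasiCompact) Z.hom fun w =>
    ⟨W' w, T w, ρ w, hw w, inferInstance, inferInstance, inferInstance,
      hloc (P := @QuasiCompact) inferInstance w⟩
  haveI : IsSeparated Z.hom := of_locally (P := @IsSeparated) Z.hom fun w =>
    ⟨W' w, T w, ρ w, hw w, inferInstance, inferInstance, inferInstance,
      hloc (P := @IsSeparated) inferInstance w⟩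
  haveI : Smooth Z.hom := of_locally (P := @Smooth) Z.hom fun w =>
    ⟨W' w, T w, ρ w, hw w, inferInstance, inferInstance, inferInstance,
      hloc (P := @Smooth) inferInstance w⟩
  have hZ : CanAmple b Z.hom := canAmple_of_locally Z.hom fun w =>
    ⟨W' w, T w, ρ w, hw w, inferInstance, inferInstance, inferInstance, by
      have hQ : CanAmple b (snd w) := hDW.baseChange (h₁ w)
      haveI : QuasiSeparated (snd w) :=
        MorphismProperty.of_isPullback (P := @QuasiSeparated) (h₁ w) inferInstance
      refine hQ.baseChange (h := (h₂ w).isoPullback.inv) (g := 𝟙 _) ?_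
      exact IsPullback.of_horiz_isIso ⟨by rw [(h₂ w).isoPullback_inv_snd, Category.comp_id]⟩⟩
  -- second descent, from `W` to `U`
  obtain ⟨UU, q, H⟩ := exists_descended_of_stage hpU DU π Z qZ HZ fun E hE => by
    refine exists_isDescended_finite π E (b := b) ?_
    rw [hE]
    exact hZ
  exact ⟨U, UU, q, hs, H⟩

end Groth.Agent.H58Stack
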